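import Groth.Agent.EtCdp5.Leray
import Groth.Agent.BcQCalc.HofPushInj

/-! vanishing of the cohomology of a direct image from the Leray spectral sequence -/

set_option autoImplicit false
set_option linter.unusedSectionVars false
set_option linter.style.haveILetI false
set_option backward.isDefEq.respectTransparency false
set_option backward.isDefEq.respectTransparency.types false

universe u

open CategoryTheory CategoryTheory.Limits AlgebraicGeometry Opposite Abelian

noncomputable section

namespace Groth.Agent.EtCdFun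

open Groth.Agent.GalCd5 Groth.Agent.EtCdp5

attribute [local instance] EtFound.pull_preservesFiniteLimits

variable {X Y : Scheme.{u}} (f : X ⟶ Y)

/-- the cohomology of `f_* G` in degree `N` vanishes if that of `G` does and the higher direct images
have no cohomology in the degrees of the differentials ending at `(N, 0)` -/
theorem subsingleton_H_push_of_leray : ∀ (N : ℕ), 0 < N → ∀ G : EtCoh.Ab X,
    Subsingleton (EtCoh.H X G N) →
    (∀ a b : ℕ, 0 < b → a + b + 1 = N → Subsingleton (EtCoh.H Y ((EtCoh.Rpush f b).obj G) a)) →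
    Subsingleton (EtCoh.H Y ((EtCoh.push f).obj G) N) := by
  intro N
  induction N with
  | zero => exact fun h => absurd h (lt_irrefl 0)
  | succ M ih =>
    intro _ G h0 hb
    rcases Nat.eq_zero_or_pos M with rfl | hM
    · exact (BcQCalc.HofPush_injective_succ f 0 G (fun j hj => absurd hj (Nat.not_lt_zero j))).subsingleton
    haveI : (EtCoh.push f).IsRightAdjoint := (EtCoh.pullPushAdj f).isRightAdjoint
    haveI : PreservesFiniteLimits (EtCoh.push f) := inferInstance
    let L := SESResLib.derivedLES (EtCoh.push f)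
    let P := Classical.arbitrary (InjectivePresentation G)
    have hS := P.shortExact_shortComplex
    let g : P.J ⟶ cokernel P.f := P.shortComplex.g
    haveI := P.injective
    haveI := injective_push f P.J
    let e := (EtCoh.push f).rightDerivedZeroIsoSelf
    let δ : (EtCoh.push f).obj (cokernel P.f) ⟶ (EtCoh.Rpush f 1).obj G :=
      e.inv.app _ ≫ L.δ _ hS 0 1 rfl
    have hgδ : (EtCoh.push f).map g ≫ δ = 0 := by
      show _ ≫ e.inv.app _ ≫ _ = 0
      rw [← Category.assoc, e.inv.naturality g, Category.assoc]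
      exact (congrArg (e.inv.app _ ≫ ·) (L.comp_δ _ hS 0 1 rfl)).trans comp_zero
    have hex : (ShortComplex.mk ((EtCoh.push f).map g) δ hgδ).Exact := by
      refine ShortComplex.exact_of_iso (S₁ := ShortComplex.mk _ _ (L.comp_δ _ hS 0 1 rfl))
        (ShortComplex.isoMk (e.app _) (e.app _) (Iso.refl _) ?_ ?_)
        (L.exact₃ _ hS 0 1 rfl)
      · exact (e.hom.naturality g).symm
      · show e.hom.app _ ≫ e.inv.app _ ≫ _ = _ ≫ 𝟙 _
        rw [e.hom_inv_id_app_assoc, Category.comp_id]
    haveI : Epi (L.δ _ hS 0 1 rfl) :=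
      (L.exact₁ _ hS 0 1 rfl).epi_f ((isZero_rightDerived_inj f P.J 0).eq_of_tgt _ _)
    haveI : Epi δ := epi_comp _ _
    let ψ : (EtCoh.push f).obj P.J ⟶ kernel δ := kernel.lift δ ((EtCoh.push f).map g) hgδ
    haveI : Epi ψ := hex.epi_kernelLift
    let S' := P.shortComplex.map (EtCoh.push f)
    haveI : Mono ((EtCoh.push f).map P.f) := inferInstance
    have hψ0 : (EtCoh.push f).map P.f ≫ ψ = 0 := by
      rw [← cancel_mono (kernel.ι δ), Category.assoc, kernel.lift_ι, zero_comp]
      exact S'.zero
    have hA : (ShortComplex.mk ((EtCoh.push f).map P.f) ψ hψ0).ShortExact := by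
      have h1 : S'.Exact := hS.exact.map_of_mono_of_preservesKernel (EtCoh.push f) hS.mono_f inferInstance
      refine { exact := ?_ }
      refine (ShortComplex.exact_iff_of_epi_of_isIso_of_mono (S₁ := ShortComplex.mk _ ψ hψ0) (S₂ := S')
        { τ₁ := 𝟙 _, τ₂ := 𝟙 _, τ₃ := kernel.ι δ, comm₁₂ := by simp [S'], comm₂₃ := by
            show 𝟙 _ ≫ (EtCoh.push f).map g = ψ ≫ kernel.ι δ
            rw [Category.id_comp, kernel.lift_ι] }).2 h1
    have hK : (ShortComplex.mk (kernel.ι δ) δ (kernel.condition δ)).ShortExact :=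
      { exact := ShortComplex.exact_of_f_is_kernel _ (kernelIsKernel _) }
    obtain ⟨M', rfl⟩ : ∃ M', M = M' + 1 := ⟨M - 1, by omega⟩
    have hQ : Subsingleton (EtCoh.H Y ((EtCoh.push f).obj (cokernel P.f)) (M' + 1)) := by
      refine ih hM _ ?_ fun a b hb0 hab => ?_
      · refine subsingleton_of_forall_eq 0 fun x => ?_
        obtain ⟨z, rfl⟩ := Ext.covariant_sequence_exact₃ _ hS x (rfl : M' + 1 + 1 = M' + 2) (h0.elim _ _)
        rw [(subsingleton_H_injective P.J M').elim z 0, Ext.zero_comp]
      · obtain ⟨b', rfl⟩ : ∃ b', b = b' + 1 := ⟨b - 1, by omega⟩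
        haveI : Mono (L.δ _ hS (b' + 1) (b' + 2) rfl) :=
          (L.exact₃ _ hS (b' + 1) (b' + 2) rfl).mono_g ((isZero_rightDerived_inj f P.J b').eq_of_src _ _)
        haveI : Epi (L.δ _ hS (b' + 1) (b' + 2) rfl) :=
          (L.exact₁ _ hS (b' + 1) (b' + 2) rfl).epi_f ((isZero_rightDerived_inj f P.J (b' + 1)).eq_of_tgt _ _)
        haveI : IsIso (L.δ _ hS (b' + 1) (b' + 2) rfl) := isIso_of_mono_of_epi _
        exact subsingleton_H_of_iso (asIso (L.δ _ hS (b' + 1) (b' + 2) rfl)).symm a
          (hb a (b' + 2) (by omega) (by omega))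
    have hK' : Subsingleton (EtCoh.H Y (kernel δ) (M' + 1)) := by
      refine subsingleton_of_forall_eq 0 fun v => ?_
      obtain ⟨w, rfl⟩ := Ext.covariant_sequence_exact₁ _ hK v (hQ.elim _ _) (rfl : M' + 1 = M' + 1)
      rw [(hb M' 1 one_pos (by omega)).elim w 0, Ext.zero_comp]
    refine subsingleton_of_forall_eq 0 fun x => ?_
    obtain ⟨z, rfl⟩ := Ext.covariant_sequence_exact₁ _ hA x
      ((subsingleton_H_injective ((EtCoh.push f).obj P.J) (M' + 1)).elim _ _) (rfl : M' + 1 + 1 = M' + 2)
    rw [hK'.elim z 0, Ext.zero_comp]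

end Groth.Agent.EtCdFun
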