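import Groth.Agent.EtCdFun.Fibre
import Groth.Agent.EtCdFun.Leray
import Groth.Agent.EtCdp5.Support
import Groth.Agent.S0073
import Groth.Agent.S0538

/-!
# Cohomological dimension bounded by a dimension function
-/

set_option autoImplicit false
set_option linter.unusedSectionVars false
set_option linter.style.haveILetI false
set_option backward.isDefEq.respectTransparency false
set_option backward.isDefEq.respectTransparency.types false

universe u

open CategoryTheory CategoryTheory.Limits AlgebraicGeometry Opposite Abelian IsLocalRing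

noncomputable section

namespace Groth.Agent.EtCdFun

open EtFound Groth.Agent.GalCd5

attribute [local instance] EtFound.pull_preservesFiniteLimits

variable {X : Scheme.{u}}

theorem isZero_stalk_of_not_mem_supp {F : EtCoh.Ab X} {Ω : Type u} [Field Ω] [IsSepClosed Ω]
    (ξ : Spec (CommRingCat.of Ω) ⟶ X) (h : ξ.base (default : Spec (CommRingCat.of Ω)) ∉ EtPBC.supp F) :
    IsZero ((EtCoh.stalk ξ).obj F) :=
  by_contra fun hz => h ⟨Ω, inferInstance, inferInstance, ξ, range_point ξ, hz⟩

theorem mem_supp_iff {F : EtCoh.Ab X} {x : X} : x ∈ EtPBC.supp F ↔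
    ∃ (Ω : Type u) (_ : Field Ω) (_ : IsSepClosed Ω) (ξ : Spec (CommRingCat.of Ω) ⟶ X),
      ξ.base (default : Spec (CommRingCat.of Ω)) = x ∧ ¬ IsZero ((EtCoh.stalk ξ).obj F) := by
  refine ⟨fun ⟨Ω, _, _, ξ, hr, hz⟩ => ⟨Ω, _, _, ξ, ?_, hz⟩,
    fun ⟨Ω, _, _, ξ, hr, hz⟩ => ⟨Ω, inferInstance, inferInstance, ξ, hr ▸ range_point ξ, hz⟩⟩
  rw [range_point, Set.singleton_eq_singleton_iff] at hr
  exact hr

theorem mem_supp_of_stalkSet {F : EtCoh.Ab X} {x : X} (h : x ∈ stalkSet F (fun A => Nontrivial A)) :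
    x ∈ EtPBC.supp F := by
  obtain ⟨Ω, _, _, ξ, hr, hn⟩ := h
  exact ⟨Ω, _, _, ξ, hr, fun h0 => not_subsingleton _ (AddCommGrpCat.subsingleton_of_isZero h0)⟩

theorem stalkSet_of_mem_supp {F : EtCoh.Ab X} {x : X} (h : x ∈ EtPBC.supp F) :
    x ∈ stalkSet F (fun A => Nontrivial A) := by
  obtain ⟨Ω, i1, i2, ξ, hr, hz⟩ := h
  exact ⟨Ω, i1, i2, ξ, hr, not_subsingleton_iff_nontrivial.1 fun hs : Subsingleton ((EtCoh.stalk ξ).obj F) =>
    hz (@AddCommGrpCat.isZero_of_subsingleton _ hs)⟩

/-- the hypothesis on the residue fields of the fibres of the strict localizations -/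
def FibHyp (X : Scheme.{u}) (ℓ : ℕ) (φ : X → ℕ) : Prop :=
  ∀ (x y : X) (hxy : x ⤳ y), x ≠ y →
    ∀ (R : Type u) [CommRing R] [IsLocalRing R] [Algebra (X.presheaf.stalk y) R]
    [IsLocalHom (algebraMap (X.presheaf.stalk y) R)] [_root_.Hensel.IsStrictHenselization (X.presheaf.stalk y) R],
    ∀ P ∈ ((RingHom.ker (Cyc.specMap y x hxy)).map (algebraMap (X.presheaf.stalk y) R)).minimalPrimes,
      ∃ d : ℕ, d + 1 + φ y ≤ φ x ∧ Dix.CohDimLEAt (Spec (CommRingCat.of (FractionRing (R ⧸ P)))) ℓ d

theorem lt_of_fibHyp {ℓ : ℕ} {φ : X → ℕ} (h2 : FibHyp X ℓ φ) {x y : X} (hxy : x ⤳ y) (hne : x ≠ y) :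
    φ y < φ x := by
  obtain ⟨R, _, _, _, _, hR⟩ := BcQCalc.exists_strictHens (X.presheaf.stalk y)
  haveI := hR
  have hne' : (RingHom.ker (Cyc.specMap y x hxy)).map (algebraMap (X.presheaf.stalk y) R) ≠ ⊤ := by
    refine ne_top_of_le_ne_top (maximalIdeal.isMaximal R).ne_top ?_
    rw [← Groth.Agent.S0538.result (X.presheaf.stalk y) R]
    exact Ideal.map_mono (le_maximalIdeal (RingHom.ker_ne_top _))
  obtain ⟨P, hP⟩ := Ideal.nonempty_minimalPrimes hne'
  obtain ⟨d, hd, -⟩ := h2 x y hxy hne R P hP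
  omega

theorem cohDimLEAt_zero_of_sepClosed (R : Type u) [CommRing R] [HenselianLocalRing R]
    [IsSepClosed (ResidueField R)] (ℓ : ℕ) : Dix.CohDimLEAt (Spec (CommRingCat.of R)) ℓ 0 :=
  fun F _ q hq => Groth.Agent.S0073.result R F q hq

theorem isSepClosed_of_equiv {K L : Type u} [Field K] [Field L] (e : K ≃+* L) [IsSepClosed K] : IsSepClosed L := by
  refine ⟨fun p hp => ?_⟩
  have h := IsSepClosed.splits_of_separable (p.map e.symm.toRingHom) (hp.map (f := e.symm.toRingHom))
  have := h.map (e : K →+* L)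
  rwa [Polynomial.map_map, show (e : K →+* L).comp e.symm.toRingHom = RingHom.id L from
    RingHom.ext e.apply_symm_apply, Polynomial.map_id] at this

/-- over its own point, the higher direct images of a point vanish -/
theorem cohDimLEAt_zero_of_self (x : X) (ℓ : ℕ) (hxy : x ⤳ x) (R : Type u) [CommRing R] [IsLocalRing R]
    [Algebra (X.presheaf.stalk x) R] [IsLocalHom (algebraMap (X.presheaf.stalk x) R)]
    [_root_.Hensel.IsStrictHenselization (X.presheaf.stalk x) R] (P : Ideal R)
    (hP : P ∈ ((RingHom.ker (Cyc.specMap x x hxy)).map (algebraMap (X.presheaf.stalk x) R)).minimalPrimes) :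
    Dix.CohDimLEAt (Spec (CommRingCat.of (FractionRing (R ⧸ P)))) ℓ 0 := by
  have hker : RingHom.ker (Cyc.specMap x x hxy) = maximalIdeal (X.presheaf.stalk x) := by
    refine le_antisymm (le_maximalIdeal (RingHom.ker_ne_top _)) fun a ha => ?_
    show Cyc.specMap x x hxy a = 0
    show (X.presheaf.stalkSpecializes hxy ≫ X.residue x) a = 0
    rw [TopCat.Presheaf.stalkSpecializes_refl, Category.id_comp]
    exact IsLocalRing.residue_eq_zero_iff _ |>.2 ha
  rw [hker, Groth.Agent.S0538.result (X.presheaf.stalk x) R, Ideal.minimalPrimes_eq_subsingleton_self,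
    Set.mem_singleton_iff] at hP
  subst hP
  haveI : IsSepClosed (ResidueField R) :=
    (_root_.Hensel.IsStrictHenselization.isSepClosure (R := X.presheaf.stalk x) (S := R)).sep_closed
  letI : Field (R ⧸ maximalIdeal R) := Ideal.Quotient.field _
  let K := FractionRing (R ⧸ maximalIdeal R)
  haveI : IsSepClosed K := @isSepClosed_of_equiv (ResidueField R) K _ _
    ((IsLocalization.atUnits (R ⧸ maximalIdeal R) (nonZeroDivisors _) (S := K)
      (fun a ha => isUnit_iff_ne_zero.2 (nonZeroDivisors.ne_zero ha))).toRingEquiv) ‹_›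
  haveI : IsSepClosed (ResidueField K) := isSepClosed_of_equiv
    (RingEquiv.ofBijective (residue K) ⟨RingHom.injective _, IsLocalRing.residue_surjective⟩)
  exact cohDimLEAt_zero_of_sepClosed K ℓ

/-- the induction on the values of the dimension function on the support -/
theorem main [IsNoetherian X] (ℓ : ℕ) (hℓ : ℓ.Prime) (φ : X → ℕ)
    (h1 : ∀ x : X, Dix.CohDimLEAt (Spec (X.residueField x)) ℓ (φ x)) (h2 : FibHyp X ℓ φ) :
    ∀ (m : ℕ) (F : EtCoh.Ab X), Dix.IsPrimaryTorsion ℓ F → (∀ x ∈ EtPBC.supp F, φ x < m) →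
      ∀ q : ℕ, (∀ x ∈ EtPBC.supp F, φ x < q) → Subsingleton (EtCoh.H X F q) := by
  classical
  intro m
  induction m with
  | zero =>
    intro F _ hm q _
    exact EtCdp5.subsingleton_H_of_isZero ((isZero_iff_stalks _).2 fun Ω _ _ ξ =>
      isZero_stalk_of_not_mem_supp ξ fun h => Nat.not_lt_zero _ (hm _ h)) q
  | succ m ih =>
    intro F hF hm q hq
    refine EtCdp5.subsingleton_H_of_constructible_sub hℓ q F hF fun C a hC hk g _ => ?_
    have hsub : ∀ x ∈ EtPBC.supp C, x ∈ EtPBC.supp F := fun x hx => by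
      obtain ⟨Ω, _, _, ξ, hr, hz⟩ := hx
      exact ⟨Ω, _, _, ξ, hr, fun h0 => hz (EtCdp5.isZero_of_mono_stalk g ξ h0)⟩
    let S := stalkSet C (fun A => Nontrivial A)
    let M0 : Set X := {η | η ∈ S ∧ ∀ z ∈ S, z ⤳ η → z = η}
    have hM0 : ∀ y ∈ S, ∃ η ∈ M0, η ⤳ y := fun y hy => by
      let Z : Set ℕ := {n | ∃ z ∈ S, z ⤳ y ∧ φ z = m - n}
      have hne : Z.Nonempty := ⟨m - φ y, y, hy, specializes_rfl, by
        have := hm y (hsub y (mem_supp_of_stalkSet hy)); omega⟩
      obtain ⟨n, ⟨z, hz, hzy, hn⟩, hmin⟩ := WellFounded.has_min Nat.lt_wfRel.wf Z hne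
      refine ⟨z, ⟨hz, fun w hw hwz => by_contra fun hne' => ?_⟩, hzy⟩
      have h3 := lt_of_fibHyp h2 hwz hne'
      have h4 := hm w (hsub w (mem_supp_of_stalkSet hw))
      exact hmin (m - φ w) ⟨w, hw, hwz.trans hzy, by omega⟩ (show m - φ w < n by omega)
    haveI : Finite M0 := by
      obtain ⟨T, hTf, hTc, hTi, hTu⟩ :=
        TopologicalSpace.NoetherianSpace.exists_finite_set_isClosed_irreducible (isClosed_closure (s := S))
      haveI := hTf.to_subtype
      let gp : T → X := fun t => (hTi t.1 t.2).genericPoint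
      refine ((Set.finite_range gp).subset fun η hη => ?_).to_subtype
      obtain ⟨t, ht, hηt⟩ := Set.mem_sUnion.1 (hTu ▸ subset_closure hη.1 : η ∈ ⋃₀ T)
      have hspec := (hTi t ht).isGenericPoint_genericPoint_closure
      rw [(hTc t ht).closure_eq] at hspec
      have hg : (hTi t ht).genericPoint ∈ closure S := hTu ▸ Set.mem_sUnion.2 ⟨t, ht, hspec.mem⟩
      obtain ⟨w, hw, hwg⟩ := EtCdp5.exists_specializes_of_mem_closure_support C hC hg
      have hgη := hspec.specializes hηt
      have := hη.2 w hw (hwg.trans hgη)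
      subst this
      exact ⟨⟨t, ht⟩, (hgη.antisymm hwg).eq⟩
    let i : ∀ η : M0, Spec (X.residueField η.1) ⟶ X := fun η => X.fromSpecResidueField η.1
    haveI : ∀ η, (EtCoh.pull (i η)).Additive := fun η => (EtCoh.pullPushAdj (i η)).left_adjoint_additive
    haveI : ∀ η, (EtCoh.push (i η)).Additive := fun η => (EtCoh.pullPushAdj (i η)).right_adjoint_additive
    haveI : ∀ η, QuasiCompact (i η) := fun η => quasiCompact_of_compactSpace _
    let G : ∀ η : M0, EtCoh.Ab (Spec (X.residueField η.1)) := fun η => (EtCoh.pull (i η)).obj C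
    let M : M0 → EtCoh.Ab X := fun η => (EtCoh.push (i η)).obj (G η)
    let α : C ⟶ ∏ᶜ M := Limits.Pi.lift fun η => (EtCoh.pullPushAdj (i η)).unit.app C
    have hG : ∀ η, (ℓ ^ a) • 𝟙 (G η) = 0 := fun η => killed_map _ _ _ hk
    have hMk : (ℓ ^ a) • 𝟙 (∏ᶜ M) = 0 := Limits.Pi.hom_ext _ _ fun η => by
      rw [Preadditive.nsmul_comp, Category.id_comp, zero_comp, ← Category.comp_id (Limits.Pi.π M η),
        ← Preadditive.comp_nsmul, killed_map (EtCoh.push (i η)) _ _ (hG η), comp_zero]
    have hlow : ∀ η : M0, φ η.1 < m + 1 ∧ φ η.1 < q := fun η =>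
      ⟨hm _ (hsub _ (mem_supp_of_stalkSet η.2.1)), hq _ (hsub _ (mem_supp_of_stalkSet η.2.1))⟩
    -- away from proper specializations of the maximal points `α` is bijective
    have hiso : ∀ (Ω : Type u) [Field Ω] [IsSepClosed Ω] (ξ : Spec (CommRingCat.of Ω) ⟶ X),
        (¬ ∃ η : M0, η.1 ⤳ ξ.base (default : Spec (CommRingCat.of Ω)) ∧
          η.1 ≠ ξ.base (default : Spec (CommRingCat.of Ω))) → IsIso ((EtCoh.stalk ξ).map α) := by
      intro Ω _ _ ξ hno
      let c := ξ.base (default : Spec (CommRingCat.of Ω))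
      let St := EtCoh.stalk ξ
      haveI : St.Additive := Functor.additive_of_preserves_binary_products _
      haveI : PreservesFiniteProducts St := inferInstance
      let hl : IsLimit (St.mapCone (limit.cone (Discrete.functor M))) := isLimitOfPreserves St (limit.isLimit _)
      have h0 : ∀ e : M0, e.1 ≠ c → IsZero (St.obj (M e)) := fun e he =>
        isZero_stalk_push_point e.1 _ ξ fun hs => hno ⟨e, hs, he⟩
      by_cases hc : c ∈ M0
      · let c' : M0 := ⟨c, hc⟩
        haveI : IsIso (St.map (Limits.Pi.π M c')) := by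
          let s : Cone (Discrete.functor M ⋙ St) :=
            ⟨St.obj (M c'), Discrete.natTrans fun e => if h : e.as = c' then eqToHom (by rw [← h]; rfl) else 0⟩
          refine ⟨hl.lift s, hl.hom_ext fun ⟨e⟩ => ?_, ?_⟩
          · rw [Category.assoc, hl.fac, Category.id_comp]
            by_cases h : e = c'
            · subst h
              show St.map (Limits.Pi.π M c') ≫ dite _ _ _ = _
              rw [dif_pos rfl]
              exact Category.comp_id _
            · exact (h0 e fun he => h (Subtype.ext he)).eq_of_tgt _ _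
          · refine (hl.fac s ⟨c'⟩).trans ?_
            show dite _ _ _ = _
            rw [dif_pos rfl]
            rfl
        haveI : IsIso (St.map α ≫ St.map (Limits.Pi.π M c')) := by
          rw [← St.map_comp, Limits.Pi.lift_π]
          exact isIso_stalk_unit_point c C ξ rfl
        exact IsIso.of_isIso_comp_right (St.map α) (St.map (Limits.Pi.π M c'))
      · have hC0 : IsZero (St.obj C) := isZero_stalk_of_not_mem_supp ξ fun h => by
          obtain ⟨η, hη, hs⟩ := hM0 _ (stalkSet_of_mem_supp h)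
          exact hno ⟨⟨η, hη⟩, hs, fun e => hc (by rw [show c = η from e.symm]; exact hη)⟩
        have hM : IsZero (St.obj (∏ᶜ M)) := by
          rw [IsZero.iff_id_eq_zero]
          exact hl.hom_ext fun ⟨e⟩ => (h0 e fun he => hc (he ▸ e.2)).eq_of_tgt _ _
        exact ⟨0, hC0.eq_of_src _ _, hM.eq_of_src _ _⟩
    have hbad : ∀ (A : EtCoh.Ab X),
        (∀ (Ω : Type u) [Field Ω] [IsSepClosed Ω] (ξ : Spec (CommRingCat.of Ω) ⟶ X),
          IsIso ((EtCoh.stalk ξ).map α) → IsZero ((EtCoh.stalk ξ).obj A)) →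
        ∀ x ∈ EtPBC.supp A, ∃ η : M0, φ x < φ η.1 := by
      intro A hA x hx
      obtain ⟨Ω, _, _, ξ, rfl, hz⟩ := mem_supp_iff.1 hx
      by_contra hcon
      exact hz (hA Ω ξ (hiso Ω ξ fun ⟨η, hs, hne⟩ => hcon ⟨η, lt_of_fibHyp h2 hs hne⟩))
    have hKer : ∀ x ∈ EtPBC.supp (kernel α), ∃ η : M0, φ x < φ η.1 := hbad _ fun Ω _ _ ξ _ => by
      haveI : (EtCoh.stalk ξ).Additive := Functor.additive_of_preserves_binary_products _
      exact IsZero.of_iso (isZero_kernel_of_mono _) (PreservesKernel.iso (EtCoh.stalk ξ) α)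
    have hCok : ∀ x ∈ EtPBC.supp (cokernel α), ∃ η : M0, φ x < φ η.1 := hbad _ fun Ω _ _ ξ _ => by
      haveI : (EtCoh.stalk ξ).Additive := Functor.additive_of_preserves_binary_products _
      exact IsZero.of_iso (isZero_cokernel_of_epi _) (PreservesCokernel.iso (EtCoh.stalk ξ) α)
    -- the cohomology of the direct images from the maximal points
    have hMH : Subsingleton (EtCoh.H X (∏ᶜ M) q) := by
      haveI : (EtCoh.HF X q).Additive := DCoh.additive_HF X _
      haveI : PreservesFiniteProducts (EtCoh.HF X q) := inferInstance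
      refine AddCommGrpCat.subsingleton_of_isZero (G := (EtCoh.HF X q).obj (∏ᶜ M)) ?_
      refine IsZero.of_iso ?_ (PreservesProduct.iso (EtCoh.HF X q) M)
      rw [IsZero.iff_id_eq_zero]
      refine Limits.Pi.hom_ext _ _ fun η => IsZero.eq_of_tgt
        (@AddCommGrpCat.isZero_of_subsingleton ((EtCoh.HF X q).obj (M η)) ?_) _ _
      obtain ⟨hηm, hηq⟩ := hlow η
      refine subsingleton_H_push_of_leray (i η) q (by omega) (G η)
        (h1 η.1 _ (isLTorsion_of_killed ℓ a (hG η)) q hηq) fun a' b hb hab => ?_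
      haveI : (EtCoh.Rpush (i η) b).Additive := inferInstanceAs ((EtCoh.push (i η)).rightDerived b).Additive
      have hsupp : ∀ y ∈ EtPBC.supp ((EtCoh.Rpush (i η) b).obj (G η)), φ y < φ η.1 ∧ φ y < a' := by
        intro y hy
        obtain ⟨Ω, _, _, ξ, rfl, hz⟩ := mem_supp_iff.1 hy
        by_contra hcon
        refine hz (isZero_stalk_Rpush_point η.1 (G η) a (hG η) b ξ fun hxy R _ _ _ _ _ P hP => ?_)
        by_cases hne : η.1 = ξ.base (default : Spec (CommRingCat.of Ω))
        · refine ⟨0, hb, ?_⟩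
          revert R P
          generalize ξ.base (default : Spec (CommRingCat.of Ω)) = y at hne hxy
          subst hne
          intro R _ _ _ _ _ P hP
          exact cohDimLEAt_zero_of_self _ ℓ hxy R P hP
        · obtain ⟨d, hd, hcd⟩ := h2 _ _ hxy hne R P hP
          refine ⟨d, ?_, hcd⟩
          omega
      exact ih _ (isLTorsion_of_killed ℓ a (killed_map _ _ _ (hG η)))
        (fun y hy => lt_of_lt_of_le (hsupp y hy).1 (Nat.le_of_lt_succ hηm)) a' fun y hy => (hsupp y hy).2
    -- dévissage along `α`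
    obtain rfl | ⟨q', rfl⟩ : q = 0 ∨ ∃ q', q = q' + 1 := by
      rcases Nat.eq_zero_or_pos q with h | h
      · exact Or.inl h
      · exact Or.inr ⟨q - 1, by omega⟩
    · exact EtCdp5.subsingleton_H_of_isZero ((isZero_iff_stalks _).2 fun Ω _ _ ξ =>
        isZero_stalk_of_not_mem_supp ξ fun h => Nat.not_lt_zero _ (hq _ (hsub _ h))) 0
    have hK : Subsingleton (EtCoh.H X (kernel α) (q' + 1)) :=
      ih _ (isLTorsion_of_killed ℓ a (killed_kernel α _ hk))
        (fun x hx => by obtain ⟨η, hη⟩ := hKer x hx; have := hlow η; omega) _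
        (fun x hx => by obtain ⟨η, hη⟩ := hKer x hx; have := hlow η; omega)
    have hQ : Subsingleton (EtCoh.H X (cokernel α) q') := by
      refine ih _ (isLTorsion_of_killed ℓ a ?_)
        (fun x hx => by obtain ⟨η, hη⟩ := hCok x hx; have := hlow η; omega) _
        (fun x hx => by obtain ⟨η, hη⟩ := hCok x hx; have := hlow η; omega)
      rw [← cancel_epi (cokernel.π α), comp_zero, Preadditive.comp_nsmul, Category.comp_id,
        ← Category.id_comp (cokernel.π α), ← Preadditive.nsmul_comp, hMk, zero_comp]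
    have hS1 : (ShortComplex.mk (Abelian.image.ι α) (cokernel.π α) (kernel.condition _)).ShortExact :=
      { exact := ShortComplex.exact_of_f_is_kernel _ (kernelIsKernel _) }
    have h00 : kernel.ι α ≫ Abelian.factorThruImage α = 0 := by
      rw [← cancel_mono (Abelian.image.ι α), Category.assoc, Abelian.image.fac, kernel.condition, zero_comp]
    have hS0 : (ShortComplex.mk (kernel.ι α) (Abelian.factorThruImage α) h00).ShortExact := by
      refine { exact := ?_ }
      refine (ShortComplex.exact_iff_of_epi_of_isIso_of_mono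
        (S₁ := ShortComplex.mk (kernel.ι α) (Abelian.factorThruImage α) h00)
        (S₂ := ShortComplex.mk (kernel.ι α) α (kernel.condition α))
        { τ₁ := 𝟙 _, τ₂ := 𝟙 _, τ₃ := Abelian.image.ι α, comm₁₂ := by simp,
          comm₂₃ := by simp [Abelian.image.fac] }).2 ?_
      exact ShortComplex.exact_of_f_is_kernel _ (kernelIsKernel _)
    have hI : Subsingleton (EtCoh.H X (Abelian.image α) (q' + 1)) := by
      refine subsingleton_of_forall_eq 0 fun v => ?_
      obtain ⟨w, rfl⟩ := Ext.covariant_sequence_exact₁ _ hS1 v (hMH.elim _ _) (rfl : q' + 1 = q' + 1)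
      rw [hQ.elim w 0, Ext.zero_comp]
    exact subsingleton_H_of_shortExact hS0 (q' + 1) hK hI

end Groth.Agent.EtCdFun
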