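import Groth.Agent.EtCdFun.Point
import Groth.Agent.EtCdp5.RpushVan
import Groth.Prelude.Def_Dix
import Groth.Prelude.Def_Cyc
import Mathlib.RingTheory.Artinian.Ring
import Mathlib.RingTheory.Etale.Field

/-!
# Fibres of strict localizations and higher direct images from points
-/

set_option autoImplicit false
set_option linter.unusedSectionVars false
set_option linter.style.haveILetI false
set_option backward.isDefEq.respectTransparency false
set_option backward.isDefEq.respectTransparency.types false

universe u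

open CategoryTheory CategoryTheory.Limits AlgebraicGeometry Opposite IsLocalRing
open scoped TensorProduct

noncomputable section

namespace Groth.Agent.EtCdFun

open EtFound RpushStalk H0PBC

attribute [local instance] EtFound.pull_preservesFiniteLimits

/-- The finite product decomposition of the cohomology of a discrete scheme. -/
theorem subsingleton_H_of_discrete {T : Scheme.{u}} [Finite T] [DiscreteTopology T] (G : EtCoh.Ab T) (b : ℕ)
    (h : ∀ t : T, Subsingleton (EtCoh.H (Spec (T.residueField t)) ((EtCoh.pull (T.fromSpecResidueField t)).obj G) b)) :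
    Subsingleton (EtCoh.H T G b) := by
  classical
  let i : ∀ t : T, Spec (T.residueField t) ⟶ T := fun t => T.fromSpecResidueField t
  haveI : ∀ t, IsClosedImmersion (i t) := fun t =>
    IsClosedImmersion.of_isPreimmersion (i t) (by rw [Scheme.range_fromSpecResidueField]; exact isClosed_discrete _)
  let M : T → EtCoh.Ab T := fun t => (EtCoh.push (i t)).obj ((EtCoh.pull (i t)).obj G)
  let φ : G ⟶ ∏ᶜ M := Limits.Pi.lift fun t => (EtCoh.pullPushAdj (i t)).unit.app G
  haveI : IsIso φ := (isIso_iff_stalks _).2 fun Ω _ _ ξ => by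
    let c : T := ξ.base (default : Spec (CommRingCat.of Ω))
    haveI : (EtCoh.stalk ξ).Additive := Functor.additive_of_preserves_binary_products _
    let S := EtCoh.stalk ξ
    have h0 : ∀ e, e ≠ c → IsZero (S.obj (M e)) := fun e he =>
      isZero_stalk_push_point e _ ξ fun hs => he hs.eq
    haveI : IsIso (S.map (Limits.Pi.π M c)) := by
      haveI : PreservesFiniteProducts S := inferInstance
      let hl : IsLimit (S.mapCone (limit.cone (Discrete.functor M))) := isLimitOfPreserves S (limit.isLimit _)
      let s : Cone (Discrete.functor M ⋙ S) :=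
        ⟨S.obj (M c), Discrete.natTrans fun e => if h : e.as = c then eqToHom (by rw [← h]; rfl) else 0⟩
      refine ⟨hl.lift s, hl.hom_ext fun ⟨e⟩ => ?_, ?_⟩
      · rw [Category.assoc, hl.fac, Category.id_comp]
        by_cases h : e = c
        · subst h
          show S.map (Limits.Pi.π M c) ≫ dite _ _ _ = _
          rw [dif_pos rfl]
          exact Category.comp_id _
        · exact (h0 e h).eq_of_tgt _ _
      · refine (hl.fac s ⟨c⟩).trans ?_
        show dite _ _ _ = _
        rw [dif_pos rfl]
        rfl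
    haveI : IsIso (S.map φ ≫ S.map (Limits.Pi.π M c)) := by
      rw [← S.map_comp, Limits.Pi.lift_π]
      exact isIso_stalk_unit_point c G ξ rfl
    exact IsIso.of_isIso_comp_right (S.map φ) (S.map (Limits.Pi.π M c))
  refine GalCd5.subsingleton_H_of_iso (asIso φ).symm b ?_
  haveI : (EtCoh.HF T b).Additive := DCoh.additive_HF T _
  haveI : PreservesFiniteProducts (EtCoh.HF T b) := inferInstance
  refine AddCommGrpCat.subsingleton_of_isZero (G := (EtCoh.HF T b).obj (∏ᶜ M)) ?_
  refine IsZero.of_iso ?_ (PreservesProduct.iso (EtCoh.HF T b) M)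
  rw [IsZero.iff_id_eq_zero]
  exact Limits.Pi.hom_ext _ _ fun t => IsZero.eq_of_tgt
    (@AddCommGrpCat.isZero_of_subsingleton ((EtCoh.HF T b).obj (M t))
      ((GalCd5.subsingleton_H_push_iff (i t) _ b).2 (h t))) _ _

/-- The fibre ring of an ind-étale algebra is Noetherian of dimension zero. -/
theorem isArtinian_fibre {B : Type u} [CommRing B] {Ω : Type u} [Field Ω] [Algebra B Ω] {R : Type u} [CommRing R]
    [Algebra B R] (e : Hensel.Henz B Ω ≃ₐ[B] R) [IsNoetherianRing R] (q : Ideal B) [q.IsPrime] :
    IsArtinianRing (R ⊗[B] q.ResidueField) := by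
  let κ := q.ResidueField
  let L := Localization.AtPrime q
  haveI : IsNoetherianRing (R ⊗[B] L) :=
    IsLocalization.isNoetherianRing (Algebra.algebraMapSubmonoid R q.primeCompl) (R ⊗[B] L) inferInstance
  let π : (R ⊗[B] L) →ₐ[B] (R ⊗[B] κ) := Algebra.TensorProduct.map (AlgHom.id B R) (IsScalarTower.toAlgHom B L κ)
  have hπ : Function.Surjective π :=
    Algebra.TensorProduct.map_surjective _ _ (fun x => ⟨x, rfl⟩) IsLocalRing.residue_surjective
  haveI : IsNoetherianRing (R ⊗[B] κ) := isNoetherianRing_of_surjective _ _ π.toRingHom hπ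
  letI : Algebra κ (R ⊗[B] κ) := Algebra.TensorProduct.rightAlgebra
  haveI : Algebra.IsIntegral κ (R ⊗[B] κ) := ⟨fun z => by
    induction z using TensorProduct.induction_on with
    | zero => exact isIntegral_zero
    | add a b ha hb => exact ha.add hb
    | tmul r k =>
      obtain ⟨N, b, hb⟩ := Hensel.Henz.exists_ofB (e.symm r)
      haveI : Algebra.Etale B N.B := N.etale
      haveI : Algebra.Etale κ (κ ⊗[B] N.B) := inferInstance
      haveI : Module.Finite κ (κ ⊗[B] N.B) := Algebra.FormallyUnramified.finite_of_free κ (κ ⊗[B] N.B)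
      let g : N.B →ₐ[B] R := e.toAlgHom.comp (Hensel.Henz.ofB N)
      let ψ : (κ ⊗[B] N.B) →ₐ[B] (R ⊗[B] κ) :=
        (Algebra.TensorProduct.comm B κ R).toAlgHom.comp (Algebra.TensorProduct.map (AlgHom.id B κ) g)
      have hcm : ∀ c : κ, ψ (algebraMap κ (κ ⊗[B] N.B) c) = algebraMap κ (R ⊗[B] κ) c := fun c => by
        simp [ψ, Algebra.TensorProduct.algebraMap_apply, Algebra.TensorProduct.rightAlgebra]
        rfl
      let ψ' : (κ ⊗[B] N.B) →ₐ[κ] (R ⊗[B] κ) :=
        { ψ.toRingHom with commutes' := hcm }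
      have hz : ψ' (k ⊗ₜ[B] b) = r ⊗ₜ[B] k := by
        show ψ (k ⊗ₜ[B] b) = _
        simp [ψ, g, hb]
      rw [← hz]
      exact (Algebra.IsIntegral.isIntegral (R := κ) (k ⊗ₜ[B] b)).map ψ'⟩
  haveI : Ring.KrullDimLE 0 (R ⊗[B] κ) := Ring.KrullDimLE.mk₀ fun P hP =>
    Ideal.isMaximal_of_isIntegral_of_isMaximal_comap (R := κ) P
      (by
        haveI : P.IsPrime := hP
        exact ((Ideal.eq_bot_or_top (P.comap (algebraMap κ (R ⊗[B] κ)))).resolve_right
          (Ideal.IsPrime.ne_top inferInstance)).symm ▸ Ideal.bot_isMaximal)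
  exact IsNoetherianRing.isArtinianRing_of_krullDimLE_zero

variable {X : Scheme.{u}}

theorem specMap_fromSpecStalk {x y : X} (hxy : x ⤳ y) :
    Spec.map (CommRingCat.ofHom (Cyc.specMap y x hxy)) ≫ X.fromSpecStalk y = X.fromSpecResidueField x := by
  show Spec.map (X.presheaf.stalkSpecializes hxy ≫ X.residue x) ≫ _ = _
  rw [Spec.map_comp, Category.assoc, Scheme.SpecMap_stalkSpecializes_fromSpecStalk]
  rfl

/-- Points of the fibre of a strict localization are minimal primes. -/
theorem comap_mem_minimalPrimes {x y : X} (hxy : x ⤳ y) {R : Type u} [CommRing R]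
    [Algebra (X.presheaf.stalk y) R] {T : Scheme.{u}} (f : T ⟶ Spec (CommRingCat.of R)) [IsPreimmersion f]
    [DiscreteTopology T] (hrange : ∀ P, (Hens2.specOf X y R).base P = x ↔ P ∈ Set.range f.base) (t : T) :
    (f.base t).asIdeal ∈ ((RingHom.ker (Cyc.specMap y x hxy)).map (algebraMap (X.presheaf.stalk y) R)).minimalPrimes := by
  let O := X.presheaf.stalk y
  let p : PrimeSpectrum O := ⟨RingHom.ker (Cyc.specMap y x hxy), RingHom.ker_isPrime _⟩
  have hp : (X.fromSpecStalk y).base p = x := by
    have hd : (Spec.map (CommRingCat.ofHom (Cyc.specMap y x hxy))).base default = p :=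
      PrimeSpectrum.ext (congrArg (Ideal.comap (Cyc.specMap y x hxy))
        ((Ideal.eq_bot_or_top _).resolve_right (default : Spec (X.residueField x)).isPrime.ne_top))
    rw [← hd]
    exact (Scheme.Hom.comp_apply _ _ _).symm.trans ((congrArg (fun m : Spec (X.residueField x) ⟶ X => m.base default)
      (specMap_fromSpecStalk hxy)).trans (Scheme.fromSpecResidueField_apply _ _))
  have hinj : Function.Injective (X.fromSpecStalk y).base := (X.fromSpecStalk y).isEmbedding.injective
  have hcm : ∀ P : PrimeSpectrum R, (Hens2.specOf X y R).base P = x ↔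
      P.asIdeal.comap (algebraMap O R) = p.asIdeal := fun P => by
    rw [show (Hens2.specOf X y R).base P = (X.fromSpecStalk y).base (PrimeSpectrum.comap (algebraMap O R) P) from
      rfl, ← hp]
    exact ⟨fun h => congrArg PrimeSpectrum.asIdeal (hinj h), fun h => congrArg _ (PrimeSpectrum.ext h)⟩
  have ht := (hcm _).1 ((hrange _).2 ⟨t, rfl⟩)
  refine ⟨⟨(f.base t).isPrime, Ideal.map_le_iff_le_comap.2 ht.ge⟩, fun Q ⟨hQ, hle⟩ hQt => ?_⟩
  have hQp : Q.comap (algebraMap O R) = p.asIdeal :=
    le_antisymm ((Ideal.comap_mono hQt).trans ht.le) (Ideal.map_le_iff_le_comap.1 hle)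
  obtain ⟨t', ht'⟩ := (hrange ⟨Q, hQ⟩).1 ((hcm ⟨Q, hQ⟩).2 hQp)
  have hs : t' ⤳ t := (f.isEmbedding.isInducing.specializes_iff).1
    (ht'.symm ▸ (PrimeSpectrum.le_iff_specializes ⟨Q, hQ⟩ (f.base t)).1 hQt)
  exact le_of_eq ((congrArg PrimeSpectrum.asIdeal ((congrArg f.base hs.eq).symm.trans ht')))

theorem exists_finite_residue {R : Type u} [CommRing R] {T : Scheme.{u}} (f : T ⟶ Spec (CommRingCat.of R))
    [IsPreimmersion f] (t : T) :
    ∃ e : Spec (T.residueField t) ⟶ Spec (CommRingCat.of (FractionRing (R ⧸ (f.base t).asIdeal))), IsFinite e := by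
  let P := f.base t
  haveI : IsIso (f.residueFieldMap t) := by
    have hsurj : Function.Surjective (f.residueFieldMap t) := by
      intro z
      obtain ⟨a, rfl⟩ := T.residue_surjective t z
      obtain ⟨c, rfl⟩ := f.stalkMap_surjective t a
      exact ⟨(Spec (CommRingCat.of R)).residue _ c,
        ConcreteCategory.congr_hom (Scheme.residue_residueFieldMap f t) c⟩
    exact (ConcreteCategory.isIso_iff_bijective _).2 ⟨RingHom.injective _, hsurj⟩
  let α : (CommRingCat.of P.asIdeal.ResidueField) ≅ CommRingCat.of (FractionRing (R ⧸ P.asIdeal)) :=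
    (FractionRing.algEquiv (R ⧸ P.asIdeal) P.asIdeal.ResidueField).symm.toRingEquiv.toCommRingCatIso
  exact ⟨Spec.map (α.inv ≫ (Scheme.Spec.residueFieldIso (CommRingCat.of R) P).inv ≫ f.residueFieldMap t), inferInstance⟩

/-- A geometric stalk of a higher direct image from a point. -/
theorem isZero_stalk_Rpush_point [IsNoetherian X] {ℓ : ℕ} (x : X) (G : EtCoh.Ab (Spec (X.residueField x)))
    (a : ℕ) (hG : (ℓ ^ a) • 𝟙 G = 0) (b : ℕ) {Ω : Type u} [Field Ω] [IsSepClosed Ω]
    (ξ : Spec (CommRingCat.of Ω) ⟶ X)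
    (hd : ∀ hxy : x ⤳ ξ.base (default : Spec (CommRingCat.of Ω)),
      ∀ (R : Type u) [CommRing R] [IsLocalRing R] [Algebra (X.presheaf.stalk (ξ.base (default : Spec (CommRingCat.of Ω)))) R]
        [IsLocalHom (algebraMap (X.presheaf.stalk (ξ.base (default : Spec (CommRingCat.of Ω)))) R)]
        [_root_.Hensel.IsStrictHenselization (X.presheaf.stalk (ξ.base (default : Spec (CommRingCat.of Ω)))) R],
      ∀ P ∈ ((RingHom.ker (Cyc.specMap _ x hxy)).map
        (algebraMap (X.presheaf.stalk (ξ.base (default : Spec (CommRingCat.of Ω)))) R)).minimalPrimes,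
        ∃ d, d < b ∧ Dix.CohDimLEAt (Spec (CommRingCat.of (FractionRing (R ⧸ P)))) ℓ d) :
    IsZero ((EtCoh.stalk ξ).obj ((EtCoh.Rpush (X.fromSpecResidueField x) b).obj G)) := by
  generalize hy : ξ.base (default : Spec (CommRingCat.of Ω)) = y at hd
  let i := X.fromSpecResidueField x
  haveI : QuasiCompact i := quasiCompact_of_compactSpace _
  obtain ⟨R, _, _, _, _, hR⟩ := BcQCalc.exists_strictHens (X.presheaf.stalk y)
  haveI := hR
  haveI : HenselianLocalRing R := _root_.Hensel.IsStrictHenselization.henselian (R := X.presheaf.stalk y)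
  haveI : IsSepClosed (ResidueField R) :=
    (_root_.Hensel.IsStrictHenselization.isSepClosure (R := X.presheaf.stalk y) (S := R)).sep_closed
  haveI : IsNoetherianRing R := (Groth.Agent.S0540.result (X.presheaf.stalk y) R).1 inferInstance
  obtain ⟨D⟩ := RpushStalk.exists_model X y R
  let h := Hens2.specOf X y R
  refine EtCdp5.isZero_stalk_of_eq (EtFound.cpt R ≫ h) ξ ?_ ?_
  · rw [hy, Scheme.Hom.comp_apply]
    exact (congrArg h (EtFound.cpt_base R _)).trans (LocAcycLib.specOf_closedPoint X y R)
  have hbij := BcQStalk5.bijective_chi (h := h) i D G b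
  suffices hH : Subsingleton (EtCoh.H (pullback h i) ((EtCoh.pull (pullback.snd h i)).obj G) b) from
    @AddCommGrpCat.isZero_of_subsingleton _ (Function.Injective.subsingleton hbij.1)
  by_cases hxy : x ⤳ y
  swap
  · haveI : IsEmpty ↥(pullback h i) := ⟨fun t => hxy (by
      have h1 : h.base ((pullback.fst h i).base t) = x := by
        rw [← Scheme.Hom.comp_apply, pullback.condition, Scheme.Hom.comp_apply]
        exact Scheme.fromSpecResidueField_apply _ _
      have h2 := (IsLocalRing.specializes_closedPoint (R := R) ((pullback.fst h i).base t)).map h.base.hom.continuous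
      have h3 : h.base (closedPoint R) = y := LocAcycLib.specOf_closedPoint X y R
      exact h1 ▸ h3 ▸ h2)⟩
    exact EtCdp5.subsingleton_H_of_isZero (EtCdp5.isZero_of_isEmpty _) b
  have hfac := D.fac
  have hxι : x ∈ Set.range D.ι.base := by
    refine hxy.mem_open D.ι.isOpenEmbedding.isOpen_range ⟨(Spec.map (CommRingCat.ofHom (algebraMap D.B R))).base (closedPoint R), ?_⟩
    rw [← Scheme.Hom.comp_apply]
    exact (congrArg (fun t : Spec (CommRingCat.of R) ⟶ X => t.base (closedPoint R)) hfac).trans
      (LocAcycLib.specOf_closedPoint X y R)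
  obtain ⟨q, hq⟩ := hxι
  haveI := isArtinian_fibre D.e q.asIdeal
  let A := R ⊗[D.B] q.asIdeal.ResidueField
  -- the fibre is the spectrum of an Artinian ring
  haveI hT : Finite ↥(pullback h i) ∧ DiscreteTopology ↥(pullback h i) := by
    let g : Spec (CommRingCat.of q.asIdeal.ResidueField) ⟶ X :=
      Spec.map (CommRingCat.ofHom (algebraMap D.B q.asIdeal.ResidueField)) ≫ D.ι
    let e1 : Spec (CommRingCat.of A) ≅ pullback h g :=
      (pullbackSpecIso D.B R q.asIdeal.ResidueField).symm ≪≫
        (IsPullback.of_isLimit (pullbackIsPullbackOfCompMono (Spec.map (CommRingCat.ofHom (algebraMap D.B R)))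
          (Spec.map (CommRingCat.ofHom (algebraMap D.B q.asIdeal.ResidueField))) D.ι)).isoPullback ≪≫
        pullback.congrHom hfac rfl
    haveI : IsIso (Spec.map (D.ι.residueFieldMap q)) := inferInstance
    subst hq
    let e : Spec (X.residueField (D.ι.base q)) ⟶ Spec (CommRingCat.of q.asIdeal.ResidueField) :=
      inv (Spec.map (D.ι.residueFieldMap q)) ≫ Spec.map (Scheme.Spec.residueFieldIso (CommRingCat.of D.B) q).inv
    have he : e ≫ g = i := by
      simp only [e, g, i, Category.assoc, IsIso.inv_comp_eq]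
      rw [Scheme.Hom.SpecMap_residueFieldMap_fromSpecResidueField, ← Category.assoc]
      exact congrArg (· ≫ D.ι) (Scheme.Spec.map_residueFieldIso_inv_eq_fromSpecResidueField (CommRingCat.of D.B) q)
    haveI : IsIso e := inferInstance
    let ee : Spec (CommRingCat.of A) ≅ pullback h i :=
      e1 ≪≫ (asIso (pullback.map h i h g (𝟙 _) e (𝟙 _) (by simp) (by simpa using he.symm))).symm
    let hom : Spec (CommRingCat.of A) ≃ₜ ↥(pullback h i) := Scheme.homeoOfIso ee
    haveI : DiscreteTopology (Spec (CommRingCat.of A)) := inferInstanceAs (DiscreteTopology (PrimeSpectrum A))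
    haveI : Finite (Spec (CommRingCat.of A)) := inferInstanceAs (Finite (PrimeSpectrum A))
    exact ⟨Finite.of_equiv _ hom.toEquiv, hom.discreteTopology⟩
  haveI := hT.1
  haveI := hT.2
  refine subsingleton_H_of_discrete _ b fun t => ?_
  haveI : IsPreimmersion (pullback.fst h i) := MorphismProperty.pullback_fst h i inferInstance
  have hmin := comap_mem_minimalPrimes hxy (pullback.fst h i) (fun P => ?_) t
  swap
  · refine ⟨fun hP => ?_, ?_⟩
    · obtain ⟨s, hs, -⟩ := Scheme.Pullback.exists_preimage_pullback (f := h) (g := i) P default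
        (hP.trans (Scheme.fromSpecResidueField_apply _ _).symm)
      exact ⟨s, hs⟩
    · rintro ⟨s, rfl⟩
      show h.base _ = x
      rw [← Scheme.Hom.comp_apply, pullback.condition, Scheme.Hom.comp_apply]
      exact Scheme.fromSpecResidueField_apply _ _
  obtain ⟨d, hdb, hcd⟩ := hd hxy R _ hmin
  obtain ⟨e, he⟩ := exists_finite_residue (pullback.fst h i) t
  haveI := he
  haveI := (EtCoh.pullPushAdj (pullback.snd h i)).left_adjoint_additive
  haveI := (EtCoh.pullPushAdj ((pullback h i).fromSpecResidueField t)).left_adjoint_additive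
  haveI : (EtCoh.push e).Additive := (EtCoh.pullPushAdj e).right_adjoint_additive
  exact (GalCd5.subsingleton_H_push_iff e _ b).1 (hcd _ (GalCd5.isLTorsion_of_killed ℓ a
    (GalCd5.killed_map (EtCoh.push e) _ _ (GalCd5.killed_map (EtCoh.pull _) _ _
      (GalCd5.killed_map (EtCoh.pull _) _ _ hG)))) b hdb)

end Groth.Agent.EtCdFun
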