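import Groth.Agent.EtCdFun.Main
import Groth.Agent.Hensel.HenselizationDescent
import Mathlib.RingTheory.Ideal.KrullsHeightTheorem
import Mathlib.RingTheory.KrullDimension.NonZeroDivisors

/-!
# The dimension function `n - 2 · codim`
-/

set_option autoImplicit false
set_option linter.unusedSectionVars false
set_option linter.style.haveILetI false
set_option backward.isDefEq.respectTransparency false
set_option backward.isDefEq.respectTransparency.types false

universe u

open CategoryTheory CategoryTheory.Limits AlgebraicGeometry Opposite IsLocalRing Order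

noncomputable section

namespace Groth.Agent.EtCdFun

theorem exists_nat_of_le {a : WithBot ℕ∞} {E : ℕ} (h0 : 0 ≤ a) (hE : a ≤ (E : WithBot ℕ∞)) :
    ∃ e : ℕ, e ≤ E ∧ a = (e : WithBot ℕ∞) := by
  induction a with
  | bot => exact absurd h0 (by decide)
  | coe b =>
    have hb : b ≤ (E : ℕ∞) := WithBot.coe_le_coe.1 hE
    obtain ⟨e, rfl⟩ := ENat.ne_top_iff_exists.1 (ne_top_of_le_ne_top (ENat.natCast_ne_top E) hb)
    exact ⟨e, by exact_mod_cast hb, rfl⟩

theorem exists_dim_stalk {X : Scheme.{u}} [IsNoetherian X] (y : X) :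
    ∃ c : ℕ, ringKrullDim (X.presheaf.stalk y) = c := by
  have h : (maximalIdeal (X.presheaf.stalk y)).height ≠ ⊤ :=
    Ideal.height_ne_top (maximalIdeal.isMaximal _).ne_top
  obtain ⟨c, hc⟩ := ENat.ne_top_iff_exists.1 h
  exact ⟨c, by rw [← maximalIdeal_height_eq_ringKrullDim, ← hc]; rfl⟩

/-- the codimensions of a specialization and the dimension of the fibre of a strict localization -/
theorem exists_dim_quot {X : Scheme.{u}} [IsNoetherian X] {x y : X} (hxy : x ⤳ y) (hne : x ≠ y) {cx cy : ℕ}
    (hcx : ringKrullDim (X.presheaf.stalk x) = cx) (hcy : ringKrullDim (X.presheaf.stalk y) = cy)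
    (R : Type u) [CommRing R] [IsLocalRing R] [Algebra (X.presheaf.stalk y) R]
    [IsLocalHom (algebraMap (X.presheaf.stalk y) R)] [_root_.Hensel.IsStrictHenselization (X.presheaf.stalk y) R] :
    ∃ e : ℕ, ringKrullDim (R ⧸ (RingHom.ker (Cyc.specMap y x hxy)).map (algebraMap (X.presheaf.stalk y) R)) = e ∧
      e + 1 + 2 * cx ≤ 2 * cy := by
  let O := X.presheaf.stalk y
  let h := X.fromSpecStalk y
  let P : PrimeSpectrum O := ⟨RingHom.ker (Cyc.specMap y x hxy), RingHom.ker_isPrime _⟩
  have hP : h.base P = x := by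
    have hd : (Spec.map (CommRingCat.ofHom (Cyc.specMap y x hxy))).base default = P :=
      PrimeSpectrum.ext (congrArg (Ideal.comap (Cyc.specMap y x hxy))
        ((Ideal.eq_bot_or_top _).resolve_right (default : Spec (X.residueField x)).isPrime.ne_top))
    rw [← hd]
    exact (Scheme.Hom.comp_apply _ _ _).symm.trans ((congrArg (fun m : Spec (X.residueField x) ⟶ X => m.base default)
      (specMap_fromSpecStalk hxy)).trans (Scheme.fromSpecResidueField_apply _ _))
  have hemb := h.isEmbedding
  -- generalizations of `x` lift to the local scheme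
  have hcoh : (coheight x : ℕ∞) ≤ height P := by
    rw [← WithBot.coe_le_coe, coheight_eq_krullDim_Ici, height_eq_krullDim_Iic, ← krullDim_orderDual (α := Set.Iic P)]
    have hlift : ∀ z : Set.Ici x, ∃ Q : Spec O, h.base Q = z.1 := fun z => by
      have : z.1 ∈ Set.range h.base := by
        rw [Scheme.range_fromSpecStalk]
        exact (Scheme.le_iff_specializes.1 z.2).trans hxy
      exact this
    choose Q' hQ' using hlift
    let Q : Set.Ici x → PrimeSpectrum O := Q'
    have hQ : ∀ z, h.base (Q z) = z.1 := hQ'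
    have hle : ∀ z, (Q z : PrimeSpectrum O) ≤ P := fun z =>
      (PrimeSpectrum.le_iff_specializes (Q z) P).2 ((hemb.isInducing.specializes_iff).1 (by
        rw [hQ, hP]; exact Scheme.le_iff_specializes.1 z.2))
    refine krullDim_le_of_strictMono (fun z => OrderDual.toDual (⟨Q z, hle z⟩ : Set.Iic P)) fun z z' hzz => ?_
    refine OrderDual.toDual_lt_toDual.2 (lt_of_le_of_ne ?_ fun e => hzz.ne (Subtype.ext ?_))
    · exact (PrimeSpectrum.le_iff_specializes (Q z') (Q z)).2 ((hemb.isInducing.specializes_iff).1 (by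
        rw [hQ, hQ]; exact Scheme.le_iff_specializes.1 hzz.le))
    · rw [← hQ z, ← hQ z']
      exact congrArg h.base (congrArg Subtype.val e).symm
  have hsum : height P + coheight P ≤ (cy : ℕ∞) := by
    rw [← WithBot.coe_le_coe]
    refine le_of_le_of_eq ?_ hcy
    show _ ≤ krullDim (PrimeSpectrum O)
    rw [krullDim_eq_iSup_height_add_coheight_of_nonempty, WithBot.coe_le_coe]
    exact le_iSup (fun Q : PrimeSpectrum O => height Q + coheight Q) P
  obtain ⟨E, hE⟩ := ENat.ne_top_iff_exists.1
    (ne_top_of_le_ne_top (ENat.natCast_ne_top cy) (le_add_self.trans hsum))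
  have hEpos : 1 ≤ E := by
    have hnmax : ¬ IsMax P := by
      intro hmax
      have hPm : P = closedPoint O :=
        le_antisymm (le_maximalIdeal P.isPrime.ne_top) (hmax (le_maximalIdeal P.isPrime.ne_top))
      refine hne (hP.symm.trans ?_)
      rw [hPm]
      exact Scheme.fromSpecStalk_closedPoint
    have := coheight_pos.2 hnmax
    rw [← hE] at this
    exact_mod_cast this
  have hcxE : cx + E ≤ cy := by
    have h1 : (cx : ℕ∞) = coheight x := WithBot.coe_eq_coe.1 (hcx.symm.trans (ringKrullDim_stalk_eq_coheight x))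
    have h2 : (cx : ℕ∞) + E ≤ cy := by
      rw [h1, hE]
      exact (add_le_add hcoh le_rfl).trans hsum
    exact_mod_cast h2
  have hl : Groth.Agent.Hensel.IsHenzLike O R := Groth.Agent.Hensel.isHenzLike_of_isStrictHenselization O R
  let J := (RingHom.ker (Cyc.specMap y x hxy)).map (algebraMap O R)
  have hJ : J ≠ ⊤ := by
    refine ne_top_of_le_ne_top (maximalIdeal.isMaximal R).ne_top ?_
    rw [← Groth.Agent.S0538.result (X.presheaf.stalk y) R]
    exact Ideal.map_mono (le_maximalIdeal (RingHom.ker_ne_top _))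
  haveI : Nontrivial (R ⧸ J) := Ideal.Quotient.nontrivial_iff.2 hJ
  have hle : ringKrullDim (R ⧸ J) ≤ (E : WithBot ℕ∞) := by
    rw [ringKrullDim_quotient]
    have : (E : WithBot ℕ∞) = krullDim (Set.Ici P) := by
      rw [← coheight_eq_krullDim_Ici, ← hE]
      rfl
    rw [this]
    refine krullDim_le_of_strictMono (fun Q => ⟨PrimeSpectrum.comap (algebraMap O R) Q.1,
      Ideal.map_le_iff_le_comap.1 Q.2⟩) fun Q Q' hQ => ?_
    refine lt_of_le_of_ne (Ideal.comap_mono hQ.le) fun e => hQ.ne (Subtype.ext (PrimeSpectrum.ext ?_))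
    exact hl.eq_of_le_of_comap_eq hQ.le congr(($e).1.asIdeal)
  obtain ⟨e, heE, he⟩ := exists_nat_of_le ringKrullDim_nonneg_of_nontrivial hle
  exact ⟨e, he, by omega⟩

end Groth.Agent.EtCdFun
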