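import Groth.Agent.QSheaf5.Generic
import Groth.Agent.EtFound.AbRecollement
import Mathlib.AlgebraicGeometry.ResidueField

/-!
# The inclusion of a point of a scheme
-/

set_option autoImplicit false
set_option linter.unusedSectionVars false
set_option linter.style.haveILetI false
set_option backward.isDefEq.respectTransparency false
set_option backward.isDefEq.respectTransparency.types false

universe u

open CategoryTheory CategoryTheory.Limits AlgebraicGeometry Opposite

noncomputable section

namespace Groth.Agent.EtCdFun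

open EtFound

variable {X Y Z : Scheme.{u}}

theorem liftable_comp {f : X ⟶ Y} {g : Y ⟶ Z} (hf : Liftable f) (hg : Liftable g) : Liftable (f ≫ g) := by
  intro U x
  obtain ⟨V, h, p, hp⟩ := hf U x
  obtain ⟨W, k, q, hq⟩ := hg V ((pullback.fst V.hom f).base p)
  -- the base change of `W` along the composite maps to the base change of `V`
  have hk : k.left ≫ V.hom = pullback.snd W.hom g := MorphismProperty.Over.w k
  obtain ⟨r, hr1, hr2⟩ := Scheme.Pullback.exists_preimage_pullback (f := pullback.snd W.hom g) (g := f) q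
    ((pullback.snd V.hom f).base p) (by
      rw [← Scheme.Hom.comp_apply, ← pullback.condition, Scheme.Hom.comp_apply, ← hq]
      exact (congrArg (fun t => t.base q) hk).symm.trans (Scheme.Hom.comp_apply _ _ _))
  let e := pullbackLeftPullbackSndIso W.hom g f
  let c : pullback (pullback.snd W.hom g) f ⟶ pullback V.hom f :=
    pullback.map _ _ _ _ k.left (𝟙 _) (𝟙 _) (by rw [Category.comp_id]; exact hk.symm) (by simp)
  have hc : ∃ r' : (pullback (pullback.snd W.hom g) f : Scheme.{u}), c.base r' = p := by
    have hsq : IsPullback c (pullback.fst (pullback.snd W.hom g) f) (pullback.fst V.hom f) k.left := by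
      refine IsPullback.of_right ?_ (by simp [c]) (IsPullback.of_hasPullback V.hom f).flip
      have : c ≫ pullback.snd V.hom f = pullback.snd (pullback.snd W.hom g) f := by simp [c]
      rw [this, hk]
      exact (IsPullback.of_hasPullback _ _).flip
    obtain ⟨r', h1, -⟩ := EtLim8.exists_point_of_isPullback hsq p q hq.symm
    exact ⟨r', h1⟩
  obtain ⟨r', hr'⟩ := hc
  refine ⟨W, MorphismProperty.Over.homMk (e.inv ≫ c ≫ h.left) ?_, ?_⟩
  · have hh : h.left ≫ U.hom = pullback.snd V.hom f := MorphismProperty.Over.w h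
    simp only [Category.assoc, hh]
    show e.inv ≫ c ≫ pullback.snd V.hom f = pullback.snd W.hom (f ≫ g)
    simp [c, e]
  · refine ⟨e.hom.base r', ?_⟩
    show (e.inv ≫ c ≫ h.left).base (e.hom.base r') = x
    rw [← Scheme.Hom.comp_apply, e.hom_inv_id_assoc, Scheme.Hom.comp_apply, hr']
    exact hp

theorem liftable_fromSpecResidueField (x : X) : Liftable (X.fromSpecResidueField x) := by
  obtain ⟨A, w, hw, hx, -⟩ := Scheme.exists_affine_mem_range_and_range_subset
    (x := x) (U := (⊤ : X.Opens)) (by simp)
  obtain ⟨p, rfl⟩ := hx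
  let q := p.asIdeal
  let κ := q.ResidueField
  let D := A ⧸ q
  have hg : Liftable (Spec.map (CommRingCat.ofHom (algebraMap D κ)) ≫ 𝟙 (Spec (CommRingCat.of D))) :=
    QSheaf5.liftable_genPt (A := D) (𝟙 (Spec (CommRingCat.of D))) κ
  have hc : IsClosedImmersion (Spec.map (CommRingCat.ofHom (algebraMap A D))) :=
    IsClosedImmersion.spec_of_surjective _ Ideal.Quotient.mk_surjective
  have h1 : Liftable ((Spec.map (CommRingCat.ofHom (algebraMap D κ)) ≫ 𝟙 _) ≫
      Spec.map (CommRingCat.ofHom (algebraMap A D)) ≫ w) :=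
    liftable_comp hg (liftable_comp (liftable_of_isClosedImmersion _) (liftable_of_isOpenImmersion w))
  let e : Spec (X.residueField (w.base p)) ⟶ Spec (CommRingCat.of κ) :=
    inv (Spec.map (w.residueFieldMap p)) ≫ Spec.map (Scheme.Spec.residueFieldIso A p).inv
  have he : X.fromSpecResidueField (w.base p) = e ≫ (Spec.map (CommRingCat.ofHom (algebraMap D κ)) ≫ 𝟙 _) ≫
      Spec.map (CommRingCat.ofHom (algebraMap A D)) ≫ w := by
    rw [Category.comp_id, ← Category.assoc (Spec.map _), ← Spec.map_comp, ← CommRingCat.ofHom_comp,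
      ← IsScalarTower.algebraMap_eq]
    simp only [e, Category.assoc, IsIso.eq_inv_comp]
    rw [Scheme.Hom.SpecMap_residueFieldMap_fromSpecResidueField, ← Category.assoc]
    exact congrArg (· ≫ w) (Scheme.Spec.map_residueFieldIso_inv_eq_fromSpecResidueField A p).symm
  rw [he]
  haveI : IsClosedImmersion e := inferInstance
  exact liftable_comp (liftable_of_isClosedImmersion e) h1

theorem isIso_counit_point (x : X) (G : EtCoh.Ab (Spec (X.residueField x))) :
    IsIso ((EtCoh.pullPushAdj (X.fromSpecResidueField x)).counit.app G) :=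
  EtFound.counit_isIso (A := AddCommGrpCat.{u + 1}) (X.fromSpecResidueField x) (liftable_fromSpecResidueField x) G

/-- The unit at a point is an isomorphism on its geometric stalks. -/
theorem isIso_stalk_unit_point (x : X) (F : EtCoh.Ab X) {Ω : Type u} [Field Ω] [IsSepClosed Ω]
    (ξ : Spec (CommRingCat.of Ω) ⟶ X) (hξ : ξ.base (default : Spec (CommRingCat.of Ω)) = x) :
    IsIso ((EtCoh.stalk ξ).map ((EtCoh.pullPushAdj (X.fromSpecResidueField x)).unit.app F)) := by
  let i := X.fromSpecResidueField x
  refine isIso_stalk_of_lift i _ ξ ⟨default, (Scheme.fromSpecResidueField_apply _ _).trans hξ.symm⟩ fun k _ _ z => ?_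
  refine (NatIso.isIso_map_iff (sheafFiberPullIso (A := AddCommGrpCat.{u + 1}) i z) _).1 ?_
  have := isIso_counit_point x ((EtCoh.pull i).obj F)
  have : IsIso ((EtCoh.pull i).map ((EtCoh.pullPushAdj i).unit.app F)) :=
    @IsIso.of_isIso_fac_right _ _ _ _ _ _ _ _ this (IsIso.id _) ((EtCoh.pullPushAdj i).left_triangle_components F)
  exact inferInstanceAs (IsIso ((EtCoh.stalk z).map ((EtCoh.pull i).map ((EtCoh.pullPushAdj i).unit.app F))))

/-- Direct images from a point vanish outside its closure. -/
theorem isZero_stalk_push_point (x : X) (G : EtCoh.Ab (Spec (X.residueField x))) {Ω : Type u} [Field Ω]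
    [IsSepClosed Ω] (ξ : Spec (CommRingCat.of Ω) ⟶ X)
    (hξ : ¬ x ⤳ ξ.base (default : Spec (CommRingCat.of Ω))) :
    IsZero ((EtCoh.stalk ξ).obj ((EtCoh.push (X.fromSpecResidueField x)).obj G)) := by
  obtain ⟨h⟩ := nonempty_unique_stalk (A := AddCommGrpCat.{u + 1}) (isClosed_closure (s := ({x} : Set X)))
    ((EtCoh.push (X.fromSpecResidueField x)).obj G)
    (fun V hV => push_unique_of_disjoint (X.fromSpecResidueField x) G V (hV.mono_right (by
      rw [Scheme.range_fromSpecResidueField]
      exact subset_closure))) ξ (fun hc => hξ (specializes_iff_mem_closure.2 hc))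
  exact @AddCommGrpCat.isZero_of_subsingleton _ ⟨fun a b => (h.eq_default a).trans (h.eq_default b).symm⟩

end Groth.Agent.EtCdFun
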